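import Cfsg.Agent.Lib.OmegaSylowTwo.Main
import Cfsg.Agent.Lib.FiniteForms.Quad

/-!
# Transfer to a nonsingular form with the same determinant up to squares
-/

namespace CfsgLib.OmegaSylowTwo

open QuadraticMap CfsgLib.WittExtension CfsgLib.SpinorMatrix CfsgLib.SymSylowGen CfsgLib.FiniteForms

set_option autoImplicit false
set_option linter.unusedSectionVars false
set_option linter.style.haveILetI false

variable {F : Type*} [Field F] [Fintype F] {k r : ℕ}

theorem polarMat_apply_eq {ι : Type*} [Fintype ι] [DecidableEq ι] (f : (ι → F) → F) (M : Matrix ι ι F)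
    (h : ∀ u v, polar f u v = dotProduct u (M.mulVec v)) : polarMat f = M := by
  ext i j
  show polar f (Pi.single i 1) (Pi.single j 1) = M i j
  rw [h, single_one_dotProduct, Matrix.mulVec_single_one]
  rfl

theorem det_polarMat_Qd (d : Fin r → F) :
    (polarMat ⇑(Qd k d)).det = 2 ^ (2 * k + r) * ∏ j, d j := by
  rw [polarMat_apply_eq _ (Matrix.diagonal
    (Sum.elim (fun _ : Fin k × Fin 2 => (2 : F)) (fun j => 2 * d j))) fun u v => ?_,
    Matrix.det_diagonal, Fintype.prod_sum_type]
  · simp only [Sum.elim_inl, Sum.elim_inr, Finset.prod_const, Finset.card_univ, Fintype.card_prod,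
      Fintype.card_fin, Finset.prod_mul_distrib]
    rw [pow_add, mul_comm k 2]
    ring
  · rw [polar_Qd]
    simp only [dotProduct, Matrix.mulVec_diagonal, Fintype.sum_sum_type, Fintype.sum_prod_type,
      Sum.elim_inl, Sum.elim_inr, polar_qp, Fin.sum_univ_two]
    congr 1 <;> exact Finset.sum_congr rfl fun _ _ => by ring

/-- Conjugation by an isometry. -/
noncomputable def quadIsoCongr {V W : Type*} [AddCommGroup V] [Module F V] [AddCommGroup W] [Module F W]
    (Q₁ : QuadraticForm F V) (Q₂ : QuadraticForm F W) (L : V ≃ₗ[F] W) (h : ∀ v, Q₂ (L v) = Q₁ v) :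
    quadIso Q₁ ≃* quadIso Q₂ where
  toFun g := ⟨L.symm.trans (g.1.trans L), fun w => by
    show Q₂ (L (g.1 (L.symm w))) = Q₂ w
    rw [h, g.2, ← h, L.apply_symm_apply]⟩
  invFun g := ⟨L.trans (g.1.trans L.symm), fun v => by
    show Q₁ (L.symm (g.1 (L v))) = Q₁ v
    rw [← h, L.apply_symm_apply, g.2, h]⟩
  left_inv g := Subtype.ext (LinearEquiv.ext fun v => by simp)
  right_inv g := Subtype.ext (LinearEquiv.ext fun v => by simp)
  map_mul' g g' := Subtype.ext (LinearEquiv.ext fun v => by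
    show L (g.1 (g'.1 (L.symm v))) = L (g.1 (L.symm (L (g'.1 (L.symm v)))))
    rw [L.symm_apply_apply])

/-- A form with the determinant of `Qd` up to squares is isometric to it. -/
theorem exists_isometry {ι : Type*} [Fintype ι] [DecidableEq ι] (h2 : (2 : F) ≠ 0)
    (Q : QuadraticForm F (ι → F)) (hQ : (polarBilin Q).Nondegenerate) (e : ι ≃ Idx k r)
    (d : Fin r → F) (hd : ∀ j, d j ≠ 0)
    (hdet : IsSquare ((polarMat ⇑Q).det * (2 ^ (2 * k + r) * ∏ j, d j))) :
    ∃ L : (ι → F) ≃ₗ[F] (Idx k r → F), ∀ v, Qd k d (L v) = Q v := by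
  set Q' : QuadraticForm F (Idx k r → F) := Q.comp (LinearMap.funLeft F F e) with hQ'
  have hM : polarMat ⇑Q' = (polarMat ⇑Q).submatrix e.symm e.symm := by
    ext i j
    have hs : ∀ i : Idx k r, (LinearMap.funLeft F F e) (Pi.single i (1 : F)) = Pi.single (e.symm i) 1 :=
      fun i => funext fun a => by
        simp [LinearMap.funLeft_apply, Pi.single_apply, Equiv.eq_symm_apply]
    show polar ⇑Q' (Pi.single i 1) (Pi.single j 1) =
      polar ⇑Q (Pi.single (e.symm i) 1) (Pi.single (e.symm j) 1)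
    simp only [polar, hQ', QuadraticMap.comp_apply, _root_.map_add, hs]
  have hd' : (polarMat ⇑Q').det = (polarMat ⇑Q).det := by rw [hM, Matrix.det_submatrix_equiv_self]
  have hc : Congr (polarMat ⇑(Qd k d)) (polarMat ⇑Q') := by
    rw [congr_iff h2 (polarMat_isSymm _) (polarMat_isSymm _) (polarMat_det_ne_zero (Qd_nondeg d h2 hd))
      (by rw [hd']; exact polarMat_det_ne_zero hQ), hd', det_polarMat_Qd, mul_comm]
    exact hdet
  obtain ⟨g, hg⟩ := isometry_of_congr h2 Q' (Qd k d) hc
  refine ⟨(LinearEquiv.funCongrLeft F F e.symm).trans g, fun v => ?_⟩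
  rw [LinearEquiv.trans_apply, hg]
  show Q (fun a => v (e.symm (e a))) = Q v
  simp

/-- The squares of a Sylow `2`-subgroup of the derived orthogonal group are commutators. -/
theorem sq_mem_commutator {ι : Type} [Fintype ι] [DecidableEq ι] (h2 : (2 : F) ≠ 0) {f : (ι → F) → F}
    (Q : QuadraticForm F (ι → F)) (hf : ⇑Q = f) (hQ : (polarBilin Q).Nondegenerate) (k r : ℕ) (hk : 2 ≤ k)
    (d : Fin r → F) (hd : ∀ j, d j ≠ 0) (hι : Fintype.card ι = 2 * k + r)
    (hdet : IsSquare ((polarMat ⇑Q).det * (2 ^ (2 * k + r) * ∏ j, d j)))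
    (hcard : (Nat.card (Cfsg.isometryGroup F f)).factorization 2 =
      k * ((Nat.card (Circ F)).factorization 2 + 1) + (k.factorial).factorization 2 + r)
    (P : Sylow 2 (Cfsg.Omega F f)) :
    ∀ x : (P : Subgroup (Cfsg.Omega F f)), x ^ 2 ∈ commutator (P : Subgroup (Cfsg.Omega F f)) := by
  classical
  subst hf
  obtain ⟨L, hL⟩ := exists_isometry (k := k) (r := r) h2 Q hQ
    (Fintype.equivOfCardEq (by simp [hι, mul_comm])) d hd hdet
  let Φ : Cfsg.isometryGroup F ⇑Q ≃* quadIso (Qd k d) := (isoEquiv Q).trans (quadIsoCongr Q (Qd k d) L hL)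
  rw [Nat.card_congr Φ.toEquiv] at hcard
  have hN := comap_commutator Φ
  let ψ : Cfsg.Omega F ⇑Q →* commutator (quadIso (Qd k d)) :=
    (Φ.toMonoidHom.comp (Subgroup.subtype _)).codRestrict _ fun x => hN.le x.2
  have hinj : Function.Injective ψ := fun a b e => Subtype.ext (Φ.injective (congrArg Subtype.val e))
  have hsurj : Function.Surjective ψ := fun y =>
    ⟨⟨Φ.symm y.1, hN.ge (show Φ (Φ.symm y.1) ∈ commutator (quadIso (Qd k d)) by
      rw [Φ.apply_symm_apply]; exact y.2)⟩, Subtype.ext (Φ.apply_symm_apply _)⟩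
  have h := genByExp_commutator d hd h2 hk hcard (P.mapSurjective hsurj)
  rw [Sylow.coe_mapSurjective] at h
  exact (GenByExp.of_map hinj h).pow_mem_commutator

end CfsgLib.OmegaSylowTwo
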