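import Cfsg.Agent.Lib.OmegaSylowTwo.Plane

/-!
# The power of two in the orders of orthogonal groups
-/

namespace CfsgLib.OmegaSylowTwo

set_option autoImplicit false

theorem v2_of_two_mod_four {n : ℕ} (h : n % 4 = 2) : n.factorization 2 = 1 := by
  obtain ⟨t, rfl⟩ : ∃ t, n = 2 * t := ⟨n / 2, by omega⟩
  rw [Nat.factorization_mul (by norm_num) (by omega), Finsupp.add_apply,
    Nat.Prime.factorization_self Nat.prime_two, Nat.factorization_eq_zero_of_not_dvd (by omega)]

variable {F : Type*} [Field F] [Fintype F]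

theorem card_odd_iff (h2 : (2 : F) ≠ 0) : Fintype.card F % 2 = 1 :=
  FiniteField.odd_card_of_char_ne_two fun hc => by
    haveI := ringChar.of_eq hc
    exact h2 (CharP.ofNat_eq_zero F 2)

theorem v2_sq_pow_sub_one (h2 : (2 : F) ≠ 0) (i : ℕ) (hi : i ≠ 0) :
    (Fintype.card F ^ (2 * i) - 1).factorization 2 =
      (Nat.card (Circ F)).factorization 2 + 1 + i.factorization 2 := by
  classical
  haveI : Fact (Nat.Prime 2) := ⟨Nat.prime_two⟩
  have hq := card_odd_iff h2
  have hq1 : 1 < Fintype.card F := Fintype.one_lt_card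
  have h := padicValNat.pow_two_sub_one hq1 (by omega) (n := 2 * i) (by omega) (even_two_mul i)
  simp only [← Nat.factorization_def _ Nat.prime_two] at h
  rw [Nat.factorization_mul (by norm_num) hi, Finsupp.add_apply,
    Nat.Prime.factorization_self Nat.prime_two] at h
  have hc := card_circ (F := F) h2
  by_cases hsq : IsSquare (-1 : F)
  · rw [hc.1 hsq]
    have h4 := FiniteField.isSquare_neg_one_iff.mp hsq
    rw [v2_of_two_mod_four (n := Fintype.card F + 1) (by omega)] at h
    omega
  · rw [hc.2 hsq]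
    have h4 : Fintype.card F % 4 = 3 := by
      by_contra h4; exact hsq (FiniteField.isSquare_neg_one_iff.mpr h4)
    rw [v2_of_two_mod_four (n := Fintype.card F - 1) (by omega)] at h
    omega

theorem v2_prod (h2 : (2 : F) ≠ 0) (n : ℕ) :
    (∏ i ∈ Finset.range n, (Fintype.card F ^ (2 * (i + 1)) - 1)).factorization 2 =
      n * ((Nat.card (Circ F)).factorization 2 + 1) + (n.factorial).factorization 2 := by
  have hq1 : 1 < Fintype.card F := Fintype.one_lt_card
  have hne : ∀ i, Fintype.card F ^ (2 * (i + 1)) - 1 ≠ 0 := fun i => by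
    have := Nat.one_lt_pow (n := 2 * (i + 1)) (by omega) hq1
    omega
  induction n with
  | zero => simp
  | succ n ih =>
    rw [Finset.prod_range_succ, Nat.factorization_mul (Finset.prod_ne_zero_iff.mpr fun i _ => hne i) (hne n),
      Finsupp.add_apply, ih, v2_sq_pow_sub_one h2 _ (Nat.succ_ne_zero n), Nat.factorial_succ,
      Nat.factorization_mul (Nat.succ_ne_zero n) n.factorial_ne_zero, Finsupp.add_apply]
    ring

theorem v2_pow_pm (h2 : (2 : F) ≠ 0) (m : ℕ) (hm : m ≠ 0) :
    (IsSquare ((-1 : F) ^ m) →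
      (Fintype.card F ^ m - 1).factorization 2 = (Nat.card (Circ F)).factorization 2 + m.factorization 2 ∧
      (Fintype.card F ^ m + 1).factorization 2 = 1) ∧
    (¬ IsSquare ((-1 : F) ^ m) →
      (Fintype.card F ^ m + 1).factorization 2 = (Nat.card (Circ F)).factorization 2 + m.factorization 2 ∧
      (Fintype.card F ^ m - 1).factorization 2 = 1) := by
  have hq := card_odd_iff h2
  set q := Fintype.card F with hqdef
  have hq1 : 1 < q := Fintype.one_lt_card
  have h1 : 1 < q ^ m := Nat.one_lt_pow hm hq1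
  have hs : (q ^ m - 1).factorization 2 + (q ^ m + 1).factorization 2 =
      (Nat.card (Circ F)).factorization 2 + 1 + m.factorization 2 := by
    have h := v2_sq_pow_sub_one h2 m hm
    rw [← hqdef, show q ^ (2 * m) - 1 = (q ^ m + 1) * (q ^ m - 1) by
      rw [← Nat.sq_sub_sq, one_pow, ← pow_mul, mul_comm m 2],
      Nat.factorization_mul (by omega) (by omega), Finsupp.add_apply] at h
    omega
  have hmod : IsSquare ((-1 : F) ^ m) ↔ q ^ m % 4 = 1 := by
    have h4 : q % 4 = 1 ∨ q % 4 = 3 := by omega
    have hmk : ∀ j, q ^ (2 * j) % 4 = 1 := fun j => by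
      rw [pow_mul, Nat.pow_mod, Nat.pow_mod q]
      rcases h4 with e | e <;> rw [e] <;> norm_num
    rcases Nat.even_or_odd' m with ⟨j, rfl | rfl⟩
    · simp [hmk]
    · rw [pow_succ, pow_succ, pow_mul, neg_one_sq, one_pow, one_mul, FiniteField.isSquare_neg_one_iff,
        ← hqdef, Nat.mul_mod, hmk, one_mul, Nat.mod_mod]
      omega
  have hodd : q ^ m % 2 = 1 := by rw [Nat.pow_mod, hq, one_pow, Nat.one_mod]
  rw [hmod]
  constructor
  · intro h
    have := v2_of_two_mod_four (n := q ^ m + 1) (by omega)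
    omega
  · intro h
    have := v2_of_two_mod_four (n := q ^ m - 1) (by omega)
    omega

end CfsgLib.OmegaSylowTwo
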