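import Cfsg.Agent.Lib.OmegaSylowTwo.Plane

/-!
# Block matrices for a sum of planes `x² + y²` and lines
-/

namespace CfsgLib.OmegaSylowTwo

open QuadraticMap CfsgLib.WittExtension CfsgLib.SpinorNorm CfsgLib.SpinorMatrix

set_option autoImplicit false
set_option linter.unusedSectionVars false
set_option linter.style.haveILetI false

variable {F : Type*} [Field F] [Fintype F] {k r : ℕ} (d : Fin r → F)

/-- The index type. -/
abbrev Idx (k r : ℕ) : Type := (Fin k × Fin 2) ⊕ Fin r

/-- The form `Σ (x² + y²) + Σ d z²`. -/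
noncomputable abbrev Qd (k : ℕ) {r : ℕ} (d : Fin r → F) : QuadraticForm F (Idx k r → F) :=
  weightedSumSquares F (Sum.elim (fun _ : Fin k × Fin 2 => (1 : F)) d)

theorem Qd_apply (v : Idx k r → F) :
    Qd k d v = (∑ i, qp F (fun a => v (.inl (i, a)))) + ∑ j, d j * (v (.inr j) * v (.inr j)) := by
  simp [weightedSumSquares_apply, Fintype.sum_sum_type, Fintype.sum_prod_type]

theorem polar_Qd (u v : Idx k r → F) :
    polar (Qd k d) u v = (∑ i, polar (qp F) (fun a => u (.inl (i, a))) (fun a => v (.inl (i, a)))) +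
      ∑ j, 2 * d j * (u (.inr j) * v (.inr j)) := by
  simp only [polar, Qd_apply, Pi.add_apply, ← Pi.add_def, Finset.sum_sub_distrib]
  rw [show ∑ j, 2 * d j * (u (.inr j) * v (.inr j)) = (∑ j, d j * ((u (.inr j) + v (.inr j)) *
    (u (.inr j) + v (.inr j)))) - (∑ j, d j * (u (.inr j) * u (.inr j))) -
    ∑ j, d j * (v (.inr j) * v (.inr j)) by
      rw [← Finset.sum_sub_distrib, ← Finset.sum_sub_distrib]
      exact Finset.sum_congr rfl fun j _ => by ring]
  ring

theorem Qd_nondeg (h2 : (2 : F) ≠ 0) (hd : ∀ j, d j ≠ 0) : (polarBilin (Qd k d)).Nondegenerate := by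
  classical
  refine CfsgLib.OrthOrder.nondegenerate_of fun x hx => ?_
  funext z
  have h := hx (Pi.single z 1)
  rw [polar_Qd] at h
  rcases z with ⟨i, a⟩ | j
  · rw [Finset.sum_eq_single i, Finset.sum_eq_zero, add_zero] at h
    · fin_cases a <;> simpa [polar_qp, h2, Pi.single_apply] using h
    · intro j _; simp [Pi.single_apply]
    · intro i' _ hne; simp [polar_qp, Pi.single_apply, hne]
    · simp
  · rw [Finset.sum_eq_zero, Finset.sum_eq_single j, zero_add] at h
    · simpa [h2, hd j] using h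
    · intro j' _ hne; simp [Pi.single_apply, hne]
    · simp
    · intro i _; simp [polar_qp, Pi.single_apply]

/-- The block diagonal linear map. -/
noncomputable def blLin (f : Fin k → quadIso (qp F)) (s : Fin r → ℤˣ) :
    (Idx k r → F) →ₗ[F] (Idx k r → F) where
  toFun v := Sum.elim (fun x => (f x.1).1 (fun b => v (.inl (x.1, b))) x.2)
    (fun j => ((s j : ℤ) : F) * v (.inr j))
  map_add' u v := by
    funext z
    rcases z with ⟨i, a⟩ | j
    · show (f i).1 ((fun b => u (.inl (i, b))) + fun b => v (.inl (i, b))) a = _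
      rw [map_add]; rfl
    · simp [mul_add]
  map_smul' c v := by
    funext z
    rcases z with ⟨i, a⟩ | j
    · show (f i).1 (c • fun b => v (.inl (i, b))) a = _
      rw [map_smul]; rfl
    · simp; ring

theorem blLin_mul (f f' : Fin k → quadIso (qp F)) (s s' : Fin r → ℤˣ) (v : Idx k r → F) :
    blLin f s (blLin f' s' v) = blLin (f * f') (s * s') v := by
  funext z
  rcases z with ⟨i, a⟩ | j
  · rfl
  · simp [blLin]; ring

theorem blLin_one (v : Idx k r → F) : blLin (1 : Fin k → quadIso (qp F)) (1 : Fin r → ℤˣ) v = v := by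
  funext z
  rcases z with ⟨i, a⟩ | j
  · rfl
  · simp [blLin]

/-- The block diagonal isometries. -/
noncomputable def Bl : (Fin k → quadIso (qp F)) × (Fin r → ℤˣ) →* quadIso (Qd k d) :=
  MonoidHom.mk' (fun x => ⟨LinearEquiv.ofLinear (blLin x.1 x.2) (blLin x.1⁻¹ x.2⁻¹)
      (LinearMap.ext fun v => by
        rw [LinearMap.comp_apply, blLin_mul, mul_inv_cancel, mul_inv_cancel, blLin_one]; rfl)
      (LinearMap.ext fun v => by
        rw [LinearMap.comp_apply, blLin_mul, inv_mul_cancel, inv_mul_cancel, blLin_one]; rfl),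
      fun v => by
        show Qd k d (blLin x.1 x.2 v) = Qd k d v
        rw [Qd_apply, Qd_apply]
        congr 1
        · exact Finset.sum_congr rfl fun i _ => (x.1 i).2 fun b => v (.inl (i, b))
        · refine Finset.sum_congr rfl fun j _ => ?_
          have h1 : ((x.2 j : ℤ) : F) * ((x.2 j : ℤ) : F) = 1 := by
            rcases Int.units_eq_one_or (x.2 j) with e | e <;> simp [e]
          show d j * ((((x.2 j : ℤ) : F) * v (.inr j)) * (((x.2 j : ℤ) : F) * v (.inr j))) = _
          linear_combination (d j * (v (.inr j) * v (.inr j))) * h1⟩)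
    (fun x y => Subtype.ext (LinearEquiv.ext fun v => (blLin_mul _ _ _ _ v).symm))

theorem Bl_apply (x : (Fin k → quadIso (qp F)) × (Fin r → ℤˣ)) (v : Idx k r → F) :
    (Bl d x).1 v = blLin x.1 x.2 v := rfl

/-- The permutations of the planes. -/
noncomputable def Prm : Equiv.Perm (Fin k) →* quadIso (Qd k d) :=
  MonoidHom.mk' (fun w => ⟨LinearEquiv.funCongrLeft F F
      (Equiv.sumCongr (Equiv.prodCongr w.symm (Equiv.refl (Fin 2))) (Equiv.refl (Fin r))),
      fun v => by
        show Qd k d (fun z => v ((Equiv.sumCongr (Equiv.prodCongr w.symm (Equiv.refl (Fin 2)))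
          (Equiv.refl (Fin r))) z)) = Qd k d v
        rw [Qd_apply, Qd_apply]
        congr 1
        exact Equiv.sum_comp w.symm fun i => qp F fun a => v (.inl (i, a))⟩)
    (fun w w' => Subtype.ext (LinearEquiv.ext fun v => funext fun z => by
      rcases z with ⟨i, a⟩ | j <;> rfl))

theorem Prm_apply_inl (w : Equiv.Perm (Fin k)) (v : Idx k r → F) (i : Fin k) (a : Fin 2) :
    (Prm d w).1 v (.inl (i, a)) = v (.inl (w.symm i, a)) := rfl

theorem Prm_apply_inr (w : Equiv.Perm (Fin k)) (v : Idx k r → F) (j : Fin r) :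
    (Prm d w).1 v (.inr j) = v (.inr j) := rfl

theorem Prm_Bl (w : Equiv.Perm (Fin k)) (x : (Fin k → quadIso (qp F)) × (Fin r → ℤˣ)) :
    Prm d w * Bl d x = Bl d (x.1 ∘ w.symm, x.2) * Prm d w := by
  refine Subtype.ext (LinearEquiv.ext fun v => funext fun z => ?_)
  rcases z with ⟨i, a⟩ | j <;> rfl

/-- A plane vector inside a plane of the sum. -/
def emb (r : ℕ) (i : Fin k) (u : Fin 2 → F) : Idx k r → F :=
  Sum.elim (fun x => if x.1 = i then u x.2 else 0) 0

theorem emb_fiber (i i' : Fin k) (u : Fin 2 → F) :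
    (fun a => emb r i u (.inl (i', a))) = if i' = i then u else 0 := by
  funext a
  by_cases h : i' = i <;> simp [emb, h]

theorem Qd_emb (i : Fin k) (u : Fin 2 → F) : Qd k d (emb r i u) = qp F u := by
  rw [Qd_apply, Finset.sum_eq_single i, Finset.sum_eq_zero, add_zero, emb_fiber, if_pos rfl]
  · intro j _; simp [emb]
  · intro i' _ hne
    rw [emb_fiber, if_neg hne, QuadraticMap.map_zero]
  · simp

theorem polar_emb (i : Fin k) (u : Fin 2 → F) (v : Idx k r → F) :
    polar (Qd k d) (emb r i u) v = polar (qp F) u (fun a => v (.inl (i, a))) := by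
  rw [polar_Qd, Finset.sum_eq_single i, Finset.sum_eq_zero, add_zero, emb_fiber, if_pos rfl]
  · intro j _; simp [emb]
  · intro i' _ hne
    rw [emb_fiber, if_neg hne, polar_zero_left]
  · simp

theorem Bl_single_refl (i : Fin k) {u : Fin 2 → F} (hu : qp F u ≠ 0) :
    Bl d (Pi.mulSingle i (refl (qp F) hu), 1) =
      refl (Qd k d) (show Qd k d (emb r i u) ≠ 0 by rwa [Qd_emb]) := by
  refine Subtype.ext (LinearEquiv.ext fun v => funext fun z => ?_)
  rw [Bl_apply, refl_apply, Qd_emb, polar_emb]
  rcases z with ⟨i', a⟩ | j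
  · by_cases h : i' = i
    · subst h
      show ((Pi.mulSingle i' (refl (qp F) hu) : Fin k → quadIso (qp F)) i').1
        (fun b => v (.inl (i', b))) a = _
      rw [Pi.mulSingle_eq_same, refl_apply]
      simp [emb]
    · show ((Pi.mulSingle i (refl (qp F) hu) : Fin k → quadIso (qp F)) i').1
        (fun b => v (.inl (i', b))) a = _
      rw [Pi.mulSingle_eq_of_ne h]
      simp [emb, h]
  · simp [blLin, emb]

theorem Bl_single_sign (j : Fin r) (hj : d j ≠ 0) :
    ∃ hv : Qd k d (Pi.single (Sum.inr j) (1 : F)) ≠ 0,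
      Bl d ((1 : Fin k → quadIso (qp F)), Pi.mulSingle j (-1)) = refl (Qd k d) hv := by
  classical
  have hQ : Qd k d (Pi.single (Sum.inr j) (1 : F)) = d j := by
    rw [Qd_apply, Finset.sum_eq_zero, Finset.sum_eq_single j, zero_add]
    · simp
    · intro j' _ hne; simp [Pi.single_apply, hne]
    · simp
    · intro i _; simp [qp_apply, Pi.single_apply]
  have hpol : ∀ v : Idx k r → F,
      polar (Qd k d) (Pi.single (Sum.inr j) (1 : F)) v = 2 * d j * v (.inr j) := by
    intro v
    rw [polar_Qd, Finset.sum_eq_zero, Finset.sum_eq_single j, zero_add]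
    · simp
    · intro j' _ hne; simp [Pi.single_apply, hne]
    · simp
    · intro i _; simp [polar_qp, Pi.single_apply]
  refine ⟨hQ ▸ hj, Subtype.ext (LinearEquiv.ext fun v => funext fun z => ?_)⟩
  rw [Bl_apply, refl_apply, hpol, hQ]
  rcases z with ⟨i', a⟩ | j'
  · simp [blLin]
  · by_cases h : j' = j
    · subst h
      simp [blLin]
      field_simp
      ring
    · simp [blLin, h]

/-- A swap of two planes is a product of two reflections of the same value. -/
theorem Prm_swap (h2 : (2 : F) ≠ 0) {i j : Fin k} (hij : i ≠ j) :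
    ∃ (w₀ w₁ : Idx k r → F) (h₀ : Qd k d w₀ ≠ 0) (h₁ : Qd k d w₁ ≠ 0), Qd k d w₀ = Qd k d w₁ ∧
      Prm d (Equiv.swap i j) = refl (Qd k d) h₀ * refl (Qd k d) h₁ := by
  let e : Fin 2 → Fin 2 → F := fun a => Pi.single a 1
  let w : Fin 2 → Idx k r → F := fun a => emb r i (e a) - emb r j (e a)
  have hQe : ∀ a, qp F (e a) = 1 := fun a => by fin_cases a <;> simp [e, qp_apply]
  have hpe : ∀ a (x : Fin 2 → F), polar (qp F) (e a) x = 2 * x a := fun a x => by
    fin_cases a <;> simp [e, polar_qp]
  have hQw : ∀ a, Qd k d (w a) = 2 := fun a => by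
    show Qd k d (emb r i (e a) - emb r j (e a)) = 2
    rw [sub_eq_add_neg, QuadraticMap.map_add (⇑(Qd k d)), QuadraticMap.map_neg, polar_neg_right, Qd_emb, Qd_emb, hQe,
      polar_emb, hpe]
    simp [emb, hij]
    norm_num
  have hpw : ∀ a (v : Idx k r → F),
      polar (Qd k d) (w a) v = 2 * (v (.inl (i, a)) - v (.inl (j, a))) := fun a v => by
    show polar (Qd k d) (emb r i (e a) - emb r j (e a)) v = _
    rw [polar_sub_left, polar_emb, polar_emb, hpe, hpe]
    ring
  have hne : ∀ a, Qd k d (w a) ≠ 0 := fun a => by rw [hQw]; exact h2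
  refine ⟨w 0, w 1, hne 0, hne 1, by rw [hQw, hQw], Subtype.ext (LinearEquiv.ext fun v => ?_)⟩
  show (Prm d (Equiv.swap i j)).1 v = (refl (Qd k d) (hne 0)).1 ((refl (Qd k d) (hne 1)).1 v)
  rw [refl_apply, refl_apply, hQw, hQw, hpw, hpw]
  funext z
  rcases z with ⟨i', a⟩ | j'
  · rw [Prm_apply_inl, Equiv.symm_swap]
    by_cases h1 : i' = i
    · subst h1
      fin_cases a <;> simp [w, e, emb, hij, hij.symm, h2] <;> field_simp <;> ring
    by_cases h3 : i' = j
    · subst h3
      fin_cases a <;> simp [w, e, emb, hij, hij.symm, h2] <;> field_simp <;> ring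
    · rw [Equiv.swap_apply_of_ne_of_ne h1 h3]
      simp [w, emb, h1, h3]
  · rw [Prm_apply_inr]
    simp [w, emb]

theorem Bl_injective (h2 : (2 : F) ≠ 0) :
    Function.Injective (Bl (k := k) d) := by
  classical
  intro x y h
  have hv : ∀ v, blLin x.1 x.2 v = blLin y.1 y.2 v := fun v => by
    rw [← Bl_apply, ← Bl_apply, h]
  refine Prod.ext (funext fun i => Subtype.ext (LinearEquiv.ext fun u => funext fun a => ?_))
    (funext fun j => ?_)
  · have := congrFun (hv (emb r i u)) (.inl (i, a))
    simpa [blLin, emb_fiber] using this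
  · have e := congrFun (hv (Pi.single (Sum.inr j) (1 : F))) (.inr j)
    simp [blLin] at e
    rcases Int.units_eq_one_or (x.2 j) with e1 | e1 <;> rcases Int.units_eq_one_or (y.2 j) with e2 | e2 <;>
      simp [e1, e2] at e ⊢
    · exact h2 (by linear_combination e)
    · exact h2 (by linear_combination (-1 : F) * e)

theorem Bl_mul_Prm_injective (h2 : (2 : F) ≠ 0) :
    Function.Injective (fun x : ((Fin k → quadIso (qp F)) × (Fin r → ℤˣ)) × Equiv.Perm (Fin k) =>
      Bl d x.1 * Prm d x.2) := by
  classical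
  rintro ⟨x, w⟩ ⟨y, w'⟩ h
  dsimp only at h
  have hw : w = w' := Equiv.ext fun i => by
    by_contra hne
    let u : Idx k r → F := emb r i ![1, 0]
    have hP : ∀ (w : Equiv.Perm (Fin k)), (fun b => (Prm d w).1 u (.inl (w' i, b))) =
        if w.symm (w' i) = i then ![1, 0] else 0 := fun w => by
      funext b
      rw [Prm_apply_inl]
      by_cases hh : w.symm (w' i) = i <;> simp [u, emb, hh]
    have h1 : (x.1 (w' i)).1 (fun b => (Prm d w).1 u (.inl (w' i, b))) =
        (y.1 (w' i)).1 (fun b => (Prm d w').1 u (.inl (w' i, b))) := by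
      funext b
      exact congrFun (congrArg (fun g : quadIso (Qd k d) => g.1 u) h) (.inl (w' i, b))
    rw [hP, hP, if_neg (fun e => hne (by rw [← e, Equiv.apply_symm_apply, e])), if_pos (w'.symm_apply_apply i),
      map_zero] at h1
    have h3 := congrArg (fun v => (y.1 (w' i))⁻¹.1 v) h1
    simp only [map_zero] at h3
    have h4 : (y.1 (w' i))⁻¹.1 ((y.1 (w' i)).1 ![(1 : F), 0]) = ![(1 : F), 0] :=
      LinearEquiv.symm_apply_apply _ _
    rw [h4] at h3
    simpa using congrFun h3 0
  subst hw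
  exact Prod.ext (Bl_injective d h2 (mul_right_cancel h)) rfl

end CfsgLib.OmegaSylowTwo
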