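import Mathlib

/-!
# The kernel of a character on a group generated by commuting-in-pairs involutions
-/

namespace CfsgLib.OmegaSylowTwo

set_option autoImplicit false

variable {G A : Type*} [Group G] [CommGroup A]

/-- If the generators are involutions, two of the same class are linked by one commuting with both,
and two of different classes by a commuting representative, then the kernel is generated by involutions. -/
theorem ker_le (φ : G →* A) (Gs : Set G) (hinv : ∀ x ∈ Gs, x * x = 1)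
    (cls : ∀ x ∈ Gs, ∀ y ∈ Gs, φ x = φ y → φ x ≠ 1 →
      ∃ z ∈ Gs, φ z = φ x ∧ Commute x z ∧ Commute y z)
    (com : ∀ x ∈ Gs, ∀ y ∈ Gs, φ x ≠ φ y → φ x ≠ 1 → φ y ≠ 1 →
      ∃ z ∈ Gs, φ z = φ y ∧ Commute x z)
    (A1 A2 : A) (h1 : A1 ≠ 1) (h2 : A2 ≠ 1) (h12 : A1 * A2 ≠ 1) (hne : A1 ≠ A2)
    (him : ∀ x ∈ Gs, φ x = 1 ∨ φ x = A1 ∨ φ x = A2) :
    Subgroup.closure Gs ⊓ φ.ker ≤
      Subgroup.closure {g | g ∈ Subgroup.closure Gs ⊓ φ.ker ∧ g ^ 2 = 1} := by
  classical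
  set P := Subgroup.closure Gs with hP
  set K := Subgroup.closure {g | g ∈ P ⊓ φ.ker ∧ g ^ 2 = 1} with hK
  have hconj : ∀ c ∈ P, ∀ k ∈ K, c * k * c⁻¹ ∈ K := by
    intro c hc k hk
    induction hk using Subgroup.closure_induction with
    | mem g hg =>
      refine Subgroup.subset_closure ⟨Subgroup.mem_inf.2 ⟨mul_mem (mul_mem hc hg.1.1) (inv_mem hc), ?_⟩, ?_⟩
      · rw [MonoidHom.mem_ker, map_mul, map_mul, map_inv,
          MonoidHom.mem_ker.1 hg.1.2, mul_one, mul_inv_cancel]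
      · rw [conj_pow, hg.2, mul_one, mul_inv_cancel]
    | one => rw [mul_one, mul_inv_cancel]; exact one_mem K
    | mul a b _ _ ha hb =>
      rw [show c * (a * b) * c⁻¹ = (c * a * c⁻¹) * (c * b * c⁻¹) by group]
      exact mul_mem ha hb
    | inv a _ ha =>
      rw [show c * a⁻¹ * c⁻¹ = (c * a * c⁻¹)⁻¹ by group]
      exact inv_mem ha
  have hpair : ∀ x ∈ Gs, ∀ y ∈ Gs, φ x = φ y → Commute x y → x * y ∈ K := by
    intro x hx y hy e hc
    refine Subgroup.subset_closure ⟨Subgroup.mem_inf.2 ⟨mul_mem (Subgroup.subset_closure hx) (Subgroup.subset_closure hy),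
      ?_⟩, ?_⟩
    · rw [MonoidHom.mem_ker, map_mul, ← e, ← map_mul, hinv x hx, map_one]
    · rw [hc.mul_pow, sq, sq, hinv x hx, hinv y hy, one_mul]
  have hlink : ∀ x ∈ Gs, ∀ y ∈ Gs, φ x = φ y → φ x ≠ 1 → x * y ∈ K := by
    intro x hx y hy e ne
    obtain ⟨z, hz, ez, hxz, hyz⟩ := cls x hx y hy e ne
    rw [show x * y = (x * z) * (z * y) by
      rw [mul_assoc, ← mul_assoc z, hinv z hz, one_mul]]
    exact mul_mem (hpair x hx z hz ez.symm hxz) (hpair z hz y hy (ez.trans e) hyz.symm)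
  have hker : ∀ x ∈ Gs, φ x = 1 → x ∈ K := fun x hx e =>
    Subgroup.subset_closure ⟨⟨Subgroup.subset_closure hx, e⟩, (sq x).trans (hinv x hx)⟩
  -- representatives
  obtain ⟨a, haP, ha2, haφ, haA⟩ : ∃ a ∈ P, a * a = 1 ∧ (a = 1 ∨ a ∈ Gs ∧ φ a = A1) ∧
      ∀ x ∈ Gs, φ x = A1 → x * a ∈ K := by
    by_cases h : ∃ a ∈ Gs, φ a = A1
    · obtain ⟨a, ha, e⟩ := h
      exact ⟨a, Subgroup.subset_closure ha, hinv a ha, Or.inr ⟨ha, e⟩,
        fun x hx ex => hlink x hx a ha (ex.trans e.symm) (ex ▸ h1)⟩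
    · exact ⟨1, one_mem P, one_mul 1, Or.inl rfl, fun x hx ex => absurd ⟨x, hx, ex⟩ h⟩
  obtain ⟨b, hbP, hb2, hbφ, hbA, hab⟩ : ∃ b ∈ P, b * b = 1 ∧ (b = 1 ∨ b ∈ Gs ∧ φ b = A2) ∧
      (∀ x ∈ Gs, φ x = A2 → x * b ∈ K) ∧ Commute a b := by
    by_cases h : ∃ b ∈ Gs, φ b = A2
    · obtain ⟨b₀, hb₀, e⟩ := h
      rcases haφ with rfl | ⟨ha, ea⟩
      · exact ⟨b₀, Subgroup.subset_closure hb₀, hinv b₀ hb₀, Or.inr ⟨hb₀, e⟩,
          fun x hx ex => hlink x hx b₀ hb₀ (ex.trans e.symm) (ex ▸ h2), Commute.one_left _⟩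
      · obtain ⟨z, hz, ez, hc⟩ := com a ha b₀ hb₀ (by rw [ea, e]; exact hne) (ea ▸ h1) (e ▸ h2)
        exact ⟨z, Subgroup.subset_closure hz, hinv z hz, Or.inr ⟨hz, ez.trans e⟩,
          fun x hx ex => hlink x hx z hz (ex.trans (ez.trans e).symm) (ex ▸ h2), hc⟩
    · exact ⟨1, one_mem P, one_mul 1, Or.inl rfl, fun x hx ex => absurd ⟨x, hx, ex⟩ h,
        Commute.one_right _⟩
  -- every element is `k·c`
  have hba : b * a = a * b := hab.eq.symm
  have hstep : ∀ x ∈ Gs, ∃ k ∈ K, ∃ c ∈ ({1, a, b} : Set G), x = k * c := by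
    intro x hx
    rcases him x hx with e | e | e
    · exact ⟨x, hker x hx e, 1, by simp, (mul_one x).symm⟩
    · exact ⟨x * a, haA x hx e, a, by simp, by rw [mul_assoc, ha2, mul_one]⟩
    · exact ⟨x * b, hbA x hx e, b, by simp, by rw [mul_assoc, hb2, mul_one]⟩
  have hall : ∀ g ∈ P, ∃ k ∈ K, ∃ c ∈ ({1, a, b, a * b} : Set G), g = k * c := by
    intro g hg
    have hgen : ∀ x ∈ Gs, ∀ h : G, (∃ k ∈ K, ∃ c ∈ ({1, a, b, a * b} : Set G), h = k * c) →
        ∃ k ∈ K, ∃ c ∈ ({1, a, b, a * b} : Set G), x * h = k * c := by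
      rintro x hx h ⟨k, hk, c, hc, rfl⟩
      obtain ⟨t, ht, d, hd, rfl⟩ := hstep x hx
      have hdP : d ∈ P := by
        rcases hd with rfl | rfl | rfl
        · exact one_mem P
        · exact haP
        · exact hbP
      refine ⟨t * (d * k * d⁻¹), mul_mem ht (hconj d hdP k hk), d * c, ?_, by group⟩
      simp only [Set.mem_insert_iff, Set.mem_singleton_iff] at hc hd ⊢
      rcases hd with e | e | e <;> rcases hc with e' | e' | e' | e' <;> rw [e, e']
      · exact Or.inl (one_mul 1)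
      · exact Or.inr (Or.inl (one_mul a))
      · exact Or.inr (Or.inr (Or.inl (one_mul b)))
      · exact Or.inr (Or.inr (Or.inr (one_mul _)))
      · exact Or.inr (Or.inl (mul_one a))
      · exact Or.inl ha2
      · exact Or.inr (Or.inr (Or.inr rfl))
      · exact Or.inr (Or.inr (Or.inl (by rw [← mul_assoc, ha2, one_mul])))
      · exact Or.inr (Or.inr (Or.inl (mul_one b)))
      · exact Or.inr (Or.inr (Or.inr hba))
      · exact Or.inl hb2
      · exact Or.inr (Or.inl (by rw [← mul_assoc, hba, mul_assoc, hb2, mul_one]))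
    induction hg using Subgroup.closure_induction_left with
    | one => exact ⟨1, one_mem K, 1, by simp, (one_mul 1).symm⟩
    | mul_left x hx y _ ih => exact hgen x hx y ih
    | inv_mul_cancel x hx y _ ih =>
      rw [inv_eq_of_mul_eq_one_left (hinv x hx)]
      exact hgen x hx y ih
  rintro g ⟨hg, hgφ⟩
  obtain ⟨k, hk, c, hc, rfl⟩ := hall g hg
  have hkφ : φ k = 1 := by
    have : K ≤ φ.ker := (Subgroup.closure_le _).2 fun y hy => hy.1.2
    exact MonoidHom.mem_ker.1 (this hk)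
  have hcφ : φ c = 1 := by simpa [hkφ] using MonoidHom.mem_ker.1 hgφ
  suffices c = 1 by rwa [this, mul_one]
  simp only [Set.mem_insert_iff, Set.mem_singleton_iff] at hc
  rcases hc with rfl | rfl | rfl | rfl
  · rfl
  · exact haφ.resolve_right fun h => h1 (h.2 ▸ hcφ)
  · exact hbφ.resolve_right fun h => h2 (h.2 ▸ hcφ)
  · rcases haφ with rfl | ha <;> rcases hbφ with rfl | hb
    · exact one_mul 1
    · exact absurd (by simpa [hb.2] using hcφ) h2
    · exact absurd (by simpa [ha.2] using hcφ) h1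
    · exact absurd (by simpa [ha.2, hb.2] using hcφ) h12

end CfsgLib.OmegaSylowTwo
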