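import Cfsg.Agent.Lib.OmegaSylowTwo.Blocks
import Cfsg.Agent.Lib.OmegaSylowTwo.Generic
import Cfsg.Agent.Lib.SymSylowGen

/-!
# Sylow `2`-subgroups of derived orthogonal groups are generated by involutions
-/

namespace CfsgLib.OmegaSylowTwo

open QuadraticMap CfsgLib.WittExtension CfsgLib.SpinorNorm CfsgLib.SpinorMatrix CfsgLib.SymSylowGen

set_option autoImplicit false
set_option linter.unusedSectionVars false
set_option linter.style.haveILetI false
set_option maxHeartbeats 800000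

variable {F : Type*} [Field F] [Fintype F] [DecidableEq F] {k r : ℕ}

theorem finite_quadIso {V : Type*} [AddCommGroup V] [Module F V] [Finite V] (Q : QuadraticForm F V) :
    Finite (quadIso Q) :=
  Finite.of_injective (fun g : quadIso Q => (g.1 : V → V))
    fun a b e => Subtype.ext (LinearEquiv.ext (congrFun e))

/-- Intersections of the Sylow subgroups with a normal subgroup. -/
theorem genByExp_normal_of_one {G : Type*} [Group G] [Finite G] (N : Subgroup G) [hN : N.Normal]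
    (S₀ : Sylow 2 G) (h : GenByExp 2 ((S₀ : Subgroup G) ⊓ N)) (P : Sylow 2 N) :
    GenByExp 2 (P : Subgroup N) := by
  haveI : Fact (Nat.Prime 2) := ⟨Nat.prime_two⟩
  obtain ⟨S, hS⟩ := Sylow.exists_comap_subtype_eq P
  obtain ⟨g, hg⟩ := MulAction.exists_smul_eq G S₀ S
  refine GenByExp.of_map (f := N.subtype) Subtype.val_injective ?_
  rw [← hS, ← Subgroup.subgroupOf, Subgroup.subgroupOf_map_subtype]
  have e : (S₀ : Subgroup G).map (MulAut.conj g).toMonoidHom = (S : Subgroup G) := by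
    rw [← hg]; rfl
  have eN : N.map (MulAut.conj g).toMonoidHom = N :=
    le_antisymm (by rintro _ ⟨x, hx, rfl⟩; exact hN.conj_mem x hx g)
      fun x hx => ⟨g⁻¹ * x * g, by simpa using hN.conj_mem x hx g⁻¹, by simp [mul_assoc]⟩
  rw [← e]
  nth_rw 1 [← eN]
  rw [← Subgroup.map_inf _ _ _ (MulAut.conj g).injective]
  exact h.map _

/-- The Sylow `2`-subgroups of the derived group are generated by involutions. -/
theorem genByExp_commutator (d : Fin r → F) (hd : ∀ j, d j ≠ 0) (h2 : (2 : F) ≠ 0) (hk : 2 ≤ k)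
    (hcard : (Nat.card (quadIso (Qd k d))).factorization 2 =
      k * ((Nat.card (Circ F)).factorization 2 + 1) + (k.factorial).factorization 2 + r)
    (P : Sylow 2 (commutator (quadIso (Qd k d)))) :
    GenByExp 2 (P : Subgroup (commutator (quadIso (Qd k d)))) := by
  classical
  haveI : Fact (Nat.Prime 2) := ⟨Nat.prime_two⟩
  haveI := finite_quadIso (qp F)
  haveI := finite_quadIso (Qd k d)
  haveI : Nontrivial (Fin k) := Fin.nontrivial_iff_two_le.2 hk
  set hQ := Qd_nondeg (k := k) d h2 hd with hQdef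
  set φ := phi (Qd k d) hQ (hc_odd (Qd k d) h2 hQ) with hφ
  have hcomm : commutator (quadIso (Qd k d)) = φ.ker :=
    (commutator_eq (Qd k d) h2 hQ (by
      rw [Module.finrank_pi, Fintype.card_sum, Fintype.card_prod, Fintype.card_fin, Fintype.card_fin,
        Fintype.card_fin]
      omega) (hc_odd (Qd k d) h2 hQ)).1
  let D : Sylow 2 (quadIso (qp F)) := default
  obtain ⟨T, hTp, hTc, hTg, -⟩ := exists_generated 2 k
  let X : Set (quadIso (Qd k d)) := {g | ∃ (i : Fin k) (u : Fin 2 → F) (hu : qp F u ≠ 0),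
    refl (qp F) hu ∈ (D : Subgroup (quadIso (qp F))) ∧ g = Bl d (Pi.mulSingle i (refl (qp F) hu), 1)}
  let S : Set (quadIso (Qd k d)) :=
    {g | ∃ j : Fin r, g = Bl d ((1 : Fin k → quadIso (qp F)), Pi.mulSingle j (-1))}
  let W : Set (quadIso (Qd k d)) := {g | ∃ w ∈ T, w * w = 1 ∧ g = Prm d w}
  set Gs := X ∪ S ∪ W with hGs
  have hval : ∀ {v : Idx k r → F} (hv : Qd k d v ≠ 0),
      φ (refl (Qd k d) hv) = (-1, if IsSquare (Qd k d v) then -1 else 1) := fun hv => phi_refl _ h2 hQ _ hv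
  have hφW : ∀ w : Equiv.Perm (Fin k), φ (Prm d w) = 1 := by
    intro w
    have : w ∈ (φ.comp (Prm d)).ker := by
      have hle : Subgroup.closure {σ : Equiv.Perm (Fin k) | σ.IsSwap} ≤ (φ.comp (Prm d)).ker := by
        rw [Subgroup.closure_le]
        rintro σ ⟨i, j, hij, rfl⟩
        obtain ⟨w₀, w₁, h₀, h₁, he, hs⟩ := Prm_swap d h2 hij
        rw [SetLike.mem_coe, MonoidHom.mem_ker, MonoidHom.comp_apply, hs, map_mul, hval h₀, hval h₁, he]
        rw [Prod.mk_mul_mk, Int.units_mul_self, Int.units_mul_self]; rfl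
      rw [Equiv.Perm.closure_isSwap] at hle
      exact hle (Subgroup.mem_top w)
    exact MonoidHom.mem_ker.1 this
  have hφX : ∀ (i : Fin k) (u : Fin 2 → F) (hu : qp F u ≠ 0),
      φ (Bl d (Pi.mulSingle i (refl (qp F) hu), 1)) = (-1, if IsSquare (qp F u) then -1 else 1) := by
    intro i u hu
    rw [Bl_single_refl, hval, Qd_emb]
  have hinv : ∀ x ∈ Gs, x * x = 1 := by
    rintro x ((⟨i, u, hu, -, rfl⟩ | ⟨j, rfl⟩) | ⟨w, -, hw, rfl⟩)
    · rw [← map_mul, Prod.mk_mul_mk, ← Pi.mulSingle_mul, refl_mul_self, Pi.mulSingle_one, one_mul]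
      exact map_one _
    · rw [← map_mul, Prod.mk_mul_mk, ← Pi.mulSingle_mul, Int.units_mul_self, Pi.mulSingle_one, one_mul]
      exact map_one _
    · rw [← map_mul, hw, map_one]
  have hXX : ∀ (i i' : Fin k) (a b : quadIso (qp F)), i ≠ i' →
      Commute (Bl d (Pi.mulSingle i a, 1)) (Bl d (Pi.mulSingle i' b, 1)) := fun i i' a b h =>
    Commute.map (Prod.ext (Pi.mulSingle_commute (f := fun _ : Fin k => quadIso (qp F)) h a b) rfl :
      Commute ((Pi.mulSingle i a, 1) : (Fin k → quadIso (qp F)) × (Fin r → ℤˣ)) (Pi.mulSingle i' b, 1)) (Bl d)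
  have hXS : ∀ (i : Fin k) (a : quadIso (qp F)) (s : Fin r → ℤˣ),
      Commute (Bl d (Pi.mulSingle i a, 1)) (Bl d ((1 : Fin k → quadIso (qp F)), s)) := fun i a s =>
    Commute.map (Prod.ext (Commute.one_right _) (Commute.one_left _) :
      Commute ((Pi.mulSingle i a, 1) : (Fin k → quadIso (qp F)) × (Fin r → ℤˣ)) (1, s)) (Bl d)
  have hSS : ∀ s s' : Fin r → ℤˣ, Commute (Bl d ((1 : Fin k → quadIso (qp F)), s))
      (Bl d ((1 : Fin k → quadIso (qp F)), s')) := fun s s' =>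
    Commute.map (Prod.ext rfl (Commute.all s s') :
      Commute (((1 : Fin k → quadIso (qp F)), s) : (Fin k → quadIso (qp F)) × (Fin r → ℤˣ)) (1, s')) (Bl d)
  have cls : ∀ x ∈ Gs, ∀ y ∈ Gs, φ x = φ y → φ x ≠ 1 →
      ∃ z ∈ Gs, φ z = φ x ∧ Commute x z ∧ Commute y z := by
    intro x hx y hy e ne
    by_cases hc : Commute x y
    · exact ⟨x, hx, rfl, Commute.refl x, hc.symm⟩
    rcases hx with (⟨i, u, hu, hD, rfl⟩ | ⟨j, rfl⟩) | ⟨w, -, -, rfl⟩
    · rcases hy with (⟨i', u', hu', hD', rfl⟩ | ⟨j', rfl⟩) | ⟨w', -, -, rfl⟩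
      · by_cases hii : i = i'
        · subst hii
          obtain ⟨i₂, hi₂⟩ := exists_ne i
          exact ⟨_, Or.inl (Or.inl ⟨i₂, u, hu, hD, rfl⟩), by rw [hφX, hφX],
            hXX _ _ _ _ hi₂.symm, hXX _ _ _ _ hi₂.symm⟩
        · exact absurd (hXX _ _ _ _ hii) hc
      · exact absurd (hXS _ _ _) hc
      · exact absurd (e.trans (hφW w')) ne
    · rcases hy with (⟨i', u', hu', hD', rfl⟩ | ⟨j', rfl⟩) | ⟨w', -, -, rfl⟩
      · exact absurd (hXS _ _ _).symm hc
      · exact absurd (hSS _ _) hc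
      · exact absurd (e.trans (hφW w')) ne
    · exact absurd (hφW w) ne
  have com : ∀ x ∈ Gs, ∀ y ∈ Gs, φ x ≠ φ y → φ x ≠ 1 → φ y ≠ 1 →
      ∃ z ∈ Gs, φ z = φ y ∧ Commute x z := by
    intro x hx y hy _ nx ny
    by_cases hc : Commute x y
    · exact ⟨y, hy, rfl, hc⟩
    rcases hx with (⟨i, u, hu, hD, rfl⟩ | ⟨j, rfl⟩) | ⟨w, -, -, rfl⟩
    · rcases hy with (⟨i', u', hu', hD', rfl⟩ | ⟨j', rfl⟩) | ⟨w', -, -, rfl⟩
      · obtain ⟨i₂, hi₂⟩ := exists_ne i
        exact ⟨_, Or.inl (Or.inl ⟨i₂, u', hu', hD', rfl⟩), by rw [hφX, hφX], hXX _ _ _ _ hi₂.symm⟩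
      · exact absurd (hXS _ _ _) hc
      · exact absurd (hφW w') ny
    · rcases hy with (⟨i', u', hu', hD', rfl⟩ | ⟨j', rfl⟩) | ⟨w', -, -, rfl⟩
      · exact absurd (hXS _ _ _).symm hc
      · exact absurd (hSS _ _) hc
      · exact absurd (hφW w') ny
    · exact absurd (hφW w) nx
  have hcases : ∀ b : Prop, [Decidable b] →
      (((-1 : ℤˣ), (if b then -1 else 1 : ℤˣ)) = 1 ∨ ((-1 : ℤˣ), (if b then -1 else 1 : ℤˣ)) = (-1, -1) ∨
        ((-1 : ℤˣ), (if b then -1 else 1 : ℤˣ)) = (-1, 1)) := fun b _ => by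
    by_cases h : b <;> simp [h]
  have him : ∀ x ∈ Gs, φ x = 1 ∨ φ x = (-1, -1) ∨ φ x = (-1, 1) := by
    rintro x ((⟨i, u, hu, -, rfl⟩ | ⟨j, rfl⟩) | ⟨w, -, -, rfl⟩)
    · rw [hφX]; exact hcases _
    · obtain ⟨hv, e⟩ := Bl_single_sign (k := k) d j (hd j)
      rw [e, hval]; exact hcases _
    · exact Or.inl (hφW w)
  have hker := ker_le φ Gs hinv cls com (-1, -1) (-1, 1) (by decide) (by decide) (by decide) (by decide) him
  -- the group generated by `Gs` is a Sylow subgroup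
  set P₀ := Subgroup.closure Gs with hP₀
  let Bsub : Subgroup ((Fin k → quadIso (qp F)) × (Fin r → ℤˣ)) :=
    (Subgroup.pi Set.univ fun _ => (D : Subgroup (quadIso (qp F)))).prod ⊤
  set L := T.map (Prm d) with hL
  set B := Bsub.map (Bl d) with hB
  have hLB : L ≤ Subgroup.normalizer (B : Set (quadIso (Qd k d))) := by
    rintro _ ⟨w, -, rfl⟩
    rw [Subgroup.mem_normalizer_iff]
    intro x
    constructor
    · rintro ⟨y, hy, rfl⟩
      exact ⟨(y.1 ∘ w.symm, y.2), ⟨fun i _ => hy.1 (w.symm i) trivial, trivial⟩,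
        by rw [Prm_Bl, mul_inv_cancel_right]⟩
    · rintro ⟨y, hy, e⟩
      refine ⟨(y.1 ∘ w, y.2), ⟨fun i _ => hy.1 (w i) trivial, trivial⟩, ?_⟩
      have h1 := Prm_Bl d w (y.1 ∘ w, y.2)
      simp only [Function.comp_assoc, Equiv.self_comp_symm, Function.comp_id] at h1
      rw [e, inv_mul_cancel_right] at h1
      exact mul_left_cancel h1
  have hBp : IsPGroup 2 B := by
    refine IsPGroup.map ?_ _
    rintro ⟨⟨f, s⟩, hf, -⟩
    have hDp := D.isPGroup'
    have : ∀ i, ∃ n : ℕ, f i ^ 2 ^ n = 1 := fun i => by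
      obtain ⟨n, hn⟩ := hDp ⟨f i, hf i trivial⟩
      exact ⟨n, congrArg Subtype.val hn⟩
    choose n hn using this
    refine ⟨(∑ i, n i) + 1, Subtype.ext (Prod.ext (funext fun i => ?_) (funext fun j => ?_))⟩
    · show f i ^ 2 ^ ((∑ i, n i) + 1) = 1
      obtain ⟨m, hm⟩ := Nat.pow_dvd_pow 2 (show n i ≤ (∑ i, n i) + 1 from
        (Finset.single_le_sum (fun _ _ => Nat.zero_le _) (Finset.mem_univ i)).trans (Nat.le_succ _))
      rw [hm, pow_mul, hn i, one_pow]
    · show s j ^ 2 ^ ((∑ i, n i) + 1) = 1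
      rw [pow_succ', pow_mul, _root_.sq, Int.units_mul_self, one_pow]
  have hle : P₀ ≤ B ⊔ L := by
    rw [hP₀, Subgroup.closure_le]
    rintro x ((⟨i, u, hu, hD, rfl⟩ | ⟨j, rfl⟩) | ⟨w, hwT, -, rfl⟩)
    · refine Subgroup.mem_sup_left ⟨_, ⟨fun i' _ => ?_, trivial⟩, rfl⟩
      by_cases h : i' = i
      · subst h; simpa using hD
      · simp [Pi.mulSingle_eq_of_ne h]
    · exact Subgroup.mem_sup_left ⟨_, ⟨fun i' _ => by simp, trivial⟩, rfl⟩
    · exact Subgroup.mem_sup_right ⟨w, hwT, rfl⟩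
  have hP₀p : IsPGroup 2 P₀ := (IsPGroup.to_sup_of_normal_left' hBp (hTp.map _) hLB).to_le hle
  -- membership of the product set
  have hf : ∀ f : Fin k → quadIso (qp F), (∀ i, f i ∈ (D : Subgroup (quadIso (qp F)))) →
      Bl d (f, 1) ∈ P₀ := by
    intro f hf
    let ι₁ : (Fin k → quadIso (qp F)) →* quadIso (Qd k d) := (Bl d).comp (MonoidHom.inl _ _)
    show f ∈ P₀.comap ι₁
    refine Subgroup.pi_mem_of_mulSingle_mem f fun i => ?_
    let ι₂ : quadIso (qp F) →* quadIso (Qd k d) := ι₁.comp (MonoidHom.mulSingle (fun _ : Fin k => quadIso (qp F)) i)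
    have : Subgroup.closure {g | g ∈ (D : Subgroup (quadIso (qp F))) ∧
        ∃ (u : Fin 2 → F) (hu : qp F u ≠ 0), g = refl (qp F) hu} ≤ P₀.comap ι₂ := by
      rw [Subgroup.closure_le]
      rintro g ⟨hg, u, hu, rfl⟩
      exact Subgroup.subset_closure (Or.inl (Or.inl ⟨i, u, hu, hg, rfl⟩))
    exact this (sylow_le_closure_refl h2 D (hf i))
  have hs : ∀ s : Fin r → ℤˣ, Bl d ((1 : Fin k → quadIso (qp F)), s) ∈ P₀ := by
    intro s
    let ι₁ : (Fin r → ℤˣ) →* quadIso (Qd k d) := (Bl d).comp (MonoidHom.inr _ _)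
    show s ∈ P₀.comap ι₁
    refine Subgroup.pi_mem_of_mulSingle_mem s fun j => ?_
    rcases Int.units_eq_one_or (s j) with e | e
    · rw [e, Pi.mulSingle_one]; exact one_mem _
    · rw [e]; exact Subgroup.subset_closure (Or.inl (Or.inr ⟨j, rfl⟩))
  have hw : ∀ w ∈ T, Prm d w ∈ P₀ := by
    intro w hw
    have : Subgroup.closure {x | x ∈ T ∧ x ^ 2 = 1} ≤ P₀.comap (Prm d) := by
      rw [Subgroup.closure_le]
      rintro x ⟨hx, hx2⟩
      exact Subgroup.subset_closure (Or.inr ⟨x, hx, by rw [← _root_.sq, hx2], rfl⟩)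
    exact this (hTg hw)
  have hlow : 2 ^ (k * ((Nat.card (Circ F)).factorization 2 + 1) + (k.factorial).factorization 2 + r) ≤
      Nat.card P₀ := by
    have hDc : Nat.card D = 2 ^ ((Nat.card (Circ F)).factorization 2 + 1) := by
      rw [D.card_eq_multiplicity, card_plane h2, Nat.factorization_mul (by norm_num) (by
        haveI : Nonempty (Circ F) := ⟨base⟩
        exact Nat.card_pos.ne'), Finsupp.add_apply, Nat.Prime.factorization_self Nat.prime_two,
        add_comm]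
    have h := Nat.card_le_card_of_injective
      (fun x : ((Fin k → (D : Subgroup (quadIso (qp F)))) × (Fin r → ℤˣ)) × T =>
        (⟨Bl d (fun i => (x.1.1 i).1, x.1.2) * Prm d x.2.1, mul_mem (by
          have := mul_mem (hf (fun i => (x.1.1 i).1) fun i => (x.1.1 i).2) (hs x.1.2)
          rwa [← map_mul, Prod.mk_mul_mk, mul_one, one_mul] at this) (hw _ x.2.2)⟩ : P₀))
      (fun x y e => by
        have := Bl_mul_Prm_injective d h2 (a₁ := ((fun i => (x.1.1 i).1, x.1.2), x.2.1))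
          (a₂ := ((fun i => (y.1.1 i).1, y.1.2), y.2.1)) (congrArg Subtype.val e)
        simp only [Prod.ext_iff] at this
        exact Prod.ext (Prod.ext (funext fun i => Subtype.ext (congrFun this.1.1 i)) this.1.2)
          (Subtype.ext this.2))
    rw [Nat.card_prod, Nat.card_prod, Nat.card_fun, Nat.card_fun, Nat.card_fin, Nat.card_fin, hDc, hTc,
      ← Nat.factorization_def _ Nat.prime_two, ← pow_mul, Nat.card_eq_fintype_card (α := ℤˣ),
      Fintype.card_units_int, ← pow_add, ← pow_add] at h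
    refine le_trans (le_of_eq ?_) h
    ring_nf
  obtain ⟨n, hn⟩ := IsPGroup.iff_card.1 hP₀p
  have hn' : n = (Nat.card (quadIso (Qd k d))).factorization 2 := by
    refine le_antisymm ?_ ?_
    · have h := (Nat.factorization_le_iff_dvd Nat.card_pos.ne' Nat.card_pos.ne').2
        (Subgroup.card_subgroup_dvd_card P₀) 2
      rwa [hn, Nat.factorization_pow, Finsupp.smul_apply, Nat.Prime.factorization_self Nat.prime_two,
        smul_eq_mul, mul_one] at h
    · rw [hcard]
      exact (Nat.pow_le_pow_iff_right (le_refl 2)).1 (hn ▸ hlow)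
  let S₀ : Sylow 2 (quadIso (Qd k d)) := Sylow.ofCard P₀ (by rw [hn, hn'])
  refine genByExp_normal_of_one (commutator (quadIso (Qd k d))) S₀ ?_ P
  show GenByExp 2 (P₀ ⊓ commutator (quadIso (Qd k d)))
  rw [hcomm]
  exact hker

end CfsgLib.OmegaSylowTwo
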