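import Cfsg.Agent.Lib.SpinorMatrix

/-!
# The orthogonal group of the plane `x² + y²`
-/

namespace CfsgLib.OmegaSylowTwo

open QuadraticMap CfsgLib.WittExtension CfsgLib.SpinorNorm CfsgLib.SpinorMatrix

set_option autoImplicit false
set_option linter.unusedSectionVars false
set_option linter.style.haveILetI false

variable (F : Type*) [Field F] [Fintype F]

/-- The plane form. -/
noncomputable abbrev qp : QuadraticForm F (Fin 2 → F) :=
  weightedSumSquares F (fun _ : Fin 2 => (1 : F))

/-- The points of the unit circle. -/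
abbrev Circ : Type _ := {c : F × F // c.1 * c.1 + c.2 * c.2 = 1}

variable {F}

theorem qp_apply (v : Fin 2 → F) : qp F v = v 0 * v 0 + v 1 * v 1 := by
  simp [weightedSumSquares_apply, Fin.sum_univ_two]

theorem polar_qp (u v : Fin 2 → F) : polar (qp F) u v = 2 * (u 0 * v 0 + u 1 * v 1) := by
  simp only [polar, qp_apply, Pi.add_apply]; ring

theorem qp_nondeg (h2 : (2 : F) ≠ 0) : (polarBilin (qp F)).Nondegenerate := by
  refine CfsgLib.OrthOrder.nondegenerate_of fun x hx => ?_
  have a := hx ![1, 0]
  have b := hx ![0, 1]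
  simp [polar_qp, h2] at a b
  funext i
  fin_cases i <;> simp [a, b]

/-- The mirror attached to a point of the circle. -/
noncomputable def mir (c : Circ F) : quadIso (qp F) :=
  ⟨{ toFun := fun v => ![c.1.1 * v 0 + c.1.2 * v 1, c.1.2 * v 0 - c.1.1 * v 1]
     map_add' := fun u v => by ext i; fin_cases i <;> simp <;> ring
     map_smul' := fun a v => by ext i; fin_cases i <;> simp <;> ring
     invFun := fun v => ![c.1.1 * v 0 + c.1.2 * v 1, c.1.2 * v 0 - c.1.1 * v 1]
     left_inv := fun v => by
       ext i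
       fin_cases i <;> simp
       · linear_combination (v 0) * c.2
       · linear_combination (v 1) * c.2
     right_inv := fun v => by
       ext i
       fin_cases i <;> simp
       · linear_combination (v 0) * c.2
       · linear_combination (v 1) * c.2 },
    fun v => by
      show qp F ![c.1.1 * v 0 + c.1.2 * v 1, c.1.2 * v 0 - c.1.1 * v 1] = qp F v
      simp [qp_apply]
      linear_combination (v 0 * v 0 + v 1 * v 1) * c.2⟩

theorem mir_apply (c : Circ F) (v : Fin 2 → F) :
    (mir c).1 v = ![c.1.1 * v 0 + c.1.2 * v 1, c.1.2 * v 0 - c.1.1 * v 1] := rfl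

/-- Every mirror is a reflection. -/
theorem exists_mir_eq_refl (h2 : (2 : F) ≠ 0) (c : Circ F) :
    ∃ (u : Fin 2 → F) (hu : qp F u ≠ 0), mir c = refl (qp F) hu := by
  obtain ⟨⟨a, b⟩, hc⟩ := c
  by_cases ha : a = -1
  · have hb : b = 0 := by
      have : b * b = 0 := by rw [ha] at hc; linear_combination hc
      exact mul_self_eq_zero.1 this
    refine ⟨![1, 0], by simp [qp_apply], Subtype.ext (LinearEquiv.ext fun v => ?_)⟩
    rw [refl_apply, mir_apply]
    ext i
    fin_cases i <;> simp [qp_apply, polar_qp, ha, hb]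
    ring
  · have ha' : 1 + a ≠ 0 := fun e => ha (by linear_combination e)
    have hQ : qp F ![b, -(1 + a)] = 2 * (1 + a) := by
      simp [qp_apply]; linear_combination hc
    have hu : qp F ![b, -(1 + a)] ≠ 0 := hQ ▸ mul_ne_zero h2 ha'
    refine ⟨![b, -(1 + a)], hu, Subtype.ext (LinearEquiv.ext fun v => ?_)⟩
    rw [refl_apply, mir_apply, hQ]
    ext i
    fin_cases i <;> simp [polar_qp] <;> field_simp
    · linear_combination (v 0) * hc
    · ring

/-- The base point. -/
def base : Circ F := ⟨(1, 0), by simp⟩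

theorem classification (h2 : (2 : F) ≠ 0) (g : quadIso (qp F)) :
    ∃ c, g = mir c ∨ g = mir c * mir base := by
  set p := g.1 ![1, 0] with hp
  set q := g.1 ![0, 1] with hq
  have hlin : ∀ v, g.1 v = v 0 • p + v 1 • q := fun v => by
    rw [hp, hq, ← map_smul, ← map_smul, ← map_add]
    congr 1
    ext i
    fin_cases i <;> simp
  have h1 : p 0 * p 0 + p 1 * p 1 = 1 := by
    rw [← qp_apply, hp, g.2]; simp [qp_apply]
  have h3 : q 0 * q 0 + q 1 * q 1 = 1 := by
    rw [← qp_apply, hq, g.2]; simp [qp_apply]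
  have h4 : p 0 * q 0 + p 1 * q 1 = 0 := by
    have := g.2 ![1, 1]
    rw [hlin, qp_apply, qp_apply] at this
    simp at this
    have h5 : 2 * (p 0 * q 0 + p 1 * q 1) = 0 := by linear_combination this - h1 - h3
    exact (mul_eq_zero.1 h5).resolve_left h2
  set t := q 1 * p 0 - q 0 * p 1 with ht
  have e0 : q 0 = -(t * p 1) := by rw [ht]; linear_combination (p 0) * h4 - (q 0) * h1
  have e1 : q 1 = t * p 0 := by rw [ht]; linear_combination (p 1) * h4 - (q 1) * h1
  have et : t * t = 1 := by
    linear_combination (-1 : F) * (t * t) * h1 + h3 + (-(q 0) + t * p 1) * e0 + (-(q 1) - t * p 0) * e1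
  refine ⟨⟨(p 0, p 1), h1⟩, ?_⟩
  rcases mul_self_eq_one_iff.1 et with e | e
  · refine Or.inr (Subtype.ext (LinearEquiv.ext fun v => ?_))
    show g.1 v = (mir (⟨(p 0, p 1), h1⟩ : Circ F)).1 ((mir (base : Circ F)).1 v)
    rw [hlin, mir_apply, mir_apply]
    ext i
    fin_cases i <;> simp [base, e0, e1, e] <;> ring
  · refine Or.inl (Subtype.ext (LinearEquiv.ext fun v => ?_))
    rw [hlin, mir_apply]
    ext i
    fin_cases i <;> simp [e0, e1, e] <;> ring

variable [DecidableEq F]

theorem dickson_mir (h2 : (2 : F) ≠ 0) (c : Circ F) :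
    dicksonHom (qp F) (qp_nondeg h2) (hc_odd (qp F) h2 (qp_nondeg h2)) (mir c) = -1 := by
  obtain ⟨u, hu, e⟩ := exists_mir_eq_refl h2 c
  rw [e, dicksonHom_refl]

theorem eq_mir_of_dickson (h2 : (2 : F) ≠ 0) {g : quadIso (qp F)}
    (hg : dicksonHom (qp F) (qp_nondeg h2) (hc_odd (qp F) h2 (qp_nondeg h2)) g = -1) :
    ∃ c, g = mir c := by
  obtain ⟨c, e | e⟩ := classification h2 g
  · exact ⟨c, e⟩
  · rw [e, map_mul, dickson_mir h2, dickson_mir h2] at hg
    exact absurd hg (by decide)

theorem mir_injective : Function.Injective (mir : Circ F → quadIso (qp F)) := fun c c' e => by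
  have h := congrArg (fun g : quadIso (qp F) => g.1 ![1, 0]) e
  simp only [mir_apply] at h
  have h0 := congrFun h 0
  have h1 := congrFun h 1
  simp at h0 h1
  exact Subtype.ext (Prod.ext h0 h1)

/-- The order of the plane group. -/
theorem card_plane (h2 : (2 : F) ≠ 0) : Nat.card (quadIso (qp F)) = 2 * Nat.card (Circ F) := by
  let Φ : Circ F × Bool → quadIso (qp F) := fun x => if x.2 then mir x.1 else mir x.1 * mir base
  have hd : ∀ x, dicksonHom (qp F) (qp_nondeg h2) (hc_odd (qp F) h2 (qp_nondeg h2)) (Φ x) =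
      if x.2 then -1 else 1 := by
    rintro ⟨c, b⟩
    cases b
    · simp [Φ, map_mul, dickson_mir h2]
    · simp [Φ, dickson_mir h2]
  have hbij : Function.Bijective Φ := by
    refine ⟨fun x y e => ?_, fun g => ?_⟩
    · have hb := congrArg (dicksonHom (qp F) (qp_nondeg h2) (hc_odd (qp F) h2 (qp_nondeg h2))) e
      rw [hd, hd] at hb
      obtain ⟨c, b⟩ := x
      obtain ⟨c', b'⟩ := y
      cases b <;> cases b' <;> simp at hb ⊢
      · exact mir_injective (mul_right_cancel (show mir c * mir base = mir c' * mir base from e))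
      · exact mir_injective e
    · obtain ⟨c, e | e⟩ := classification h2 g
      · exact ⟨(c, true), e.symm⟩
      · exact ⟨(c, false), e.symm⟩
  rw [← Nat.card_eq_of_bijective Φ hbij, Nat.card_prod, Nat.card_eq_fintype_card (α := Bool),
    Fintype.card_bool, mul_comm]

/-- A Sylow `2`-subgroup of the plane group is generated by reflections. -/
theorem sylow_le_closure_refl (h2 : (2 : F) ≠ 0) (D : Sylow 2 (quadIso (qp F))) :
    (D : Subgroup (quadIso (qp F))) ≤ Subgroup.closure
      {g | g ∈ (D : Subgroup (quadIso (qp F))) ∧ ∃ (u : Fin 2 → F) (hu : qp F u ≠ 0), g = refl (qp F) hu} := by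
  haveI : Fact (Nat.Prime 2) := ⟨Nat.prime_two⟩
  set δ := dicksonHom (qp F) (qp_nondeg h2) (hc_odd (qp F) h2 (qp_nondeg h2)) with hδ
  haveI : Finite (quadIso (qp F)) := Finite.of_injective (fun g : quadIso (qp F) => (g.1 : (Fin 2 → F) → (Fin 2 → F)))
    (fun a b e => Subtype.ext (LinearEquiv.ext (congrFun e)))
  obtain ⟨m, hm, hmδ⟩ : ∃ m ∈ (D : Subgroup (quadIso (qp F))), δ m = -1 := by
    by_contra h
    push Not at h
    have hle : (D : Subgroup (quadIso (qp F))) ≤ δ.ker := fun g hg =>
      MonoidHom.mem_ker.2 ((Int.units_eq_one_or (δ g)).resolve_right (h g hg))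
    have hsurj : Function.Surjective δ := fun x => by
      rcases Int.units_eq_one_or x with rfl | rfl
      · exact ⟨1, map_one _⟩
      · exact ⟨mir base, dickson_mir h2 base⟩
    have hker : δ.ker.index = 2 := by
      rw [Subgroup.index_ker, MonoidHom.range_eq_top.2 hsurj, Subgroup.card_top]
      simp [Nat.card_eq_fintype_card]
    exact D.not_dvd_index (dvd_trans (dvd_of_eq hker.symm) (Subgroup.index_dvd_of_le hle))
  have hgen : ∀ g ∈ (D : Subgroup (quadIso (qp F))), δ g = -1 → g ∈ Subgroup.closure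
      {g | g ∈ (D : Subgroup (quadIso (qp F))) ∧ ∃ (u : Fin 2 → F) (hu : qp F u ≠ 0), g = refl (qp F) hu} :=
    fun g hg hgδ => by
      obtain ⟨c, rfl⟩ := eq_mir_of_dickson h2 hgδ
      exact Subgroup.subset_closure ⟨hg, exists_mir_eq_refl h2 c⟩
  intro g hg
  rcases Int.units_eq_one_or (δ g) with e | e
  · have h1 := hgen (g * m) (mul_mem hg hm) (by rw [map_mul, e, hmδ, one_mul])
    simpa using mul_mem h1 (inv_mem (hgen m hm hmδ))
  · exact hgen g hg e

/-- The circle has `q - 1` or `q + 1` points. -/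
theorem card_circ (h2 : (2 : F) ≠ 0) :
    (IsSquare (-1 : F) → Nat.card (Circ F) = Fintype.card F - 1) ∧
    (¬ IsSquare (-1 : F) → Nat.card (Circ F) = Fintype.card F + 1) := by
  classical
  constructor
  · rintro ⟨i, hi⟩
    let f : Fˣ → Circ F := fun x => ⟨(((x : F) + (x : F)⁻¹) / 2, ((x : F) - (x : F)⁻¹) / (2 * i)), by
      have hx := x.ne_zero
      have hi0 : i ≠ 0 := fun e => by simp [e] at hi
      field_simp
      ring_nf
      rw [show i ^ 2 = -1 by rw [_root_.sq, ← hi]]
      ring⟩
    have hi0 : i ≠ 0 := fun e => by simp [e] at hi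
    have hf : Function.Bijective f := by
      refine ⟨fun x y e => Units.ext ?_, fun c => ?_⟩
      · have e0 := congrArg (fun c : Circ F => c.1.1 + i * c.1.2) e
        have hs : ∀ z : Fˣ, ((f z).1.1 + i * (f z).1.2) = (z : F) := fun z => by
          simp only [f]; field_simp; ring
        simpa only [hs] using e0
      · have hne : c.1.1 + i * c.1.2 ≠ 0 := fun e => one_ne_zero (α := F) (by
          linear_combination (-1 : F) * c.2 + (c.1.1 - i * c.1.2) * e - (c.1.2 * c.1.2) * hi)
        have hinv : (c.1.1 + i * c.1.2)⁻¹ = c.1.1 - i * c.1.2 :=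
          inv_eq_of_mul_eq_one_right (by linear_combination c.2 + (c.1.2 * c.1.2) * hi)
        refine ⟨Units.mk0 _ hne, Subtype.ext (Prod.ext ?_ ?_)⟩
        · simp only [f, Units.val_mk0, hinv]; field_simp; ring
        · simp only [f, Units.val_mk0, hinv]; field_simp; ring
    rw [← Nat.card_eq_of_bijective f hf, Nat.card_units, Nat.card_eq_fintype_card]
  · intro hns
    have hab : ∀ z₁ z₂ : F, z₁ ^ 2 + (0 : F) * z₁ * z₂ + (1 : F) * z₂ ^ 2 = 0 → z₁ = 0 ∧ z₂ = 0 := by
      intro z₁ z₂ h
      by_cases hz : z₂ = 0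
      · refine ⟨?_, hz⟩
        rw [hz] at h
        exact mul_self_eq_zero.1 (by linear_combination h)
      · exact absurd ⟨z₁ / z₂, by field_simp; linear_combination -h⟩ hns
    rw [← CfsgLib.OrthOrder.card_conic hab]
    exact Nat.card_congr
      { toFun := fun c => ⟨![c.1.1, c.1.2], by simp [CfsgLib.OrthOrder.binForm_apply]; linear_combination c.2⟩
        invFun := fun v => ⟨(v.1 0, v.1 1), by
          have := v.2
          rw [CfsgLib.OrthOrder.binForm_apply] at this
          linear_combination this⟩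
        left_inv := fun c => rfl
        right_inv := fun v => by ext i; fin_cases i <;> rfl }

end CfsgLib.OmegaSylowTwo
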